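import Groth.Agent.WeilAVLib.Dense
import Groth.Agent.AVHomLib.Main
import Groth.Agent.AVLib.IdSub
import Groth.Agent.AVLib.MaxAbel
import Groth.Agent.RatDenseLib.Family
import Groth.Agent.UnrField.Basic

/-!
# Reduced connected closed subgroups of abelian varieties
-/

set_option autoImplicit false
set_option backward.isDefEq.respectTransparency false
set_option linter.style.haveILetI false
set_option synthInstance.maxHeartbeats 400000
set_option maxHeartbeats 1000000

universe u

open CategoryTheory CategoryTheory.Limits MonoidalCategory CartesianMonoidalCategory MonObj AlgebraicGeometry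
open Groth.Agent.AVPtsLib (bcMap bcPt bcObj)

noncomputable section

namespace Groth.Agent.RedConnLib

variable {k : Type u} [Field k]

theorem comp_pow_hom {T A B : Over (Spec (CommRingCat.of k))} [GrpObj A] [GrpObj B] (a : T ⟶ A) (f : A ⟶ B)
    [IsMonHom f] (n : ℕ) : (a ≫ f) ^ n = (a ^ n) ≫ f := by
  induction n with
  | zero => rw [pow_zero, pow_zero, MonObj.one_comp]
  | succ n ih => rw [pow_succ, pow_succ, MonObj.mul_comp, ih]

/-- Points killed by a power of `l` lie in the images of étale schemes. -/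
theorem exists_gr_of_torsion (X : Over (Spec (CommRingCat.of k))) [GrpObj X] [IsProper X.hom]
    [GeometricallyIntegral X.hom] {Z : Scheme.{u}} (c : Z ⟶ X.left) [IsClosedImmersion c] (n : ℕ)
    (hn : (n : k) ≠ 0) {T : Over (Spec (CommRingCat.of k))} (s : T ⟶ X) (hs : s ^ n = 1) (t : T.left) (z : Z)
    (hz : c z = s.left t) : RatDenseLib.Family.IsGR (c ≫ X.hom) z := by
  obtain ⟨g, hg⟩ := AVLib.exists_dim (A := X)
  haveI := AVLib.etale_npow hg n hn
  let P := pullback η[X].left (𝟙 X ^ n).left
  let p : P ⟶ X.left := pullback.snd η[X].left (𝟙 X ^ n).left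
  let q : P ⟶ Spec (CommRingCat.of k) := pullback.fst η[X].left (𝟙 X ^ n).left
  haveI : Etale q := MorphismProperty.pullback_fst _ _ ‹Etale (𝟙 X ^ n).left›
  have hpq : p ≫ X.hom = q := by
    rw [← Over.w (𝟙 X ^ n), ← Category.assoc, ← pullback.condition, Category.assoc, Over.w η[X]]
    exact Category.comp_id _
  have hw : (toUnit T).left ≫ η[X].left = s.left ≫ (𝟙 X ^ n).left := by
    rw [← Over.comp_left, ← Over.comp_left, MonObj.comp_pow, Category.comp_id, hs, Hom.one_def]
  haveI : DiscreteTopology P := UnrField.discreteTopology k q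
  haveI := AVLib.geometricallyReduced_of_smooth q
  haveI : IsReduced P := ASp.isReduced_of_smooth q
  let U : P.Opens := ⟨p ⁻¹' Set.range c, isOpen_discrete _⟩
  let C : TopologicalSpace.Closeds X.left := ⟨Set.range c, c.isClosedEmbedding.isClosed_range⟩
  haveI : IsReduced U.toScheme := isReduced_of_isOpenImmersion U.ι
  have hU : Set.range (U.ι ≫ p) ⊆ Set.range c := by
    rintro _ ⟨u, rfl⟩
    exact u.2
  let Zo : Over (Spec (CommRingCat.of k)) := Over.mk (c ≫ X.hom)
  let Uo : Over (Spec (CommRingCat.of k)) := Over.mk (U.ι ≫ q)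
  haveI : IsReduced Uo.left := inferInstanceAs (IsReduced U.toScheme)
  haveI : IsClosedImmersion (Over.homMk c rfl : Zo ⟶ X).left := inferInstanceAs (IsClosedImmersion c)
  obtain ⟨σ, hσ⟩ := RatDenseLib.exists_lift (Over.homMk c rfl : Zo ⟶ X)
    (Over.homMk (U.ι ≫ p) (by rw [Category.assoc, hpq]; rfl) : Uo ⟶ X) hU
  have hσl : σ.left ≫ c = U.ι ≫ p := congrArg CommaMorphism.left hσ
  let x : P := pullback.lift _ _ hw t
  have hx : p x = s.left t := by
    show (pullback.lift _ _ hw ≫ p) t = _
    rw [pullback.lift_snd]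
  refine ⟨U.toScheme, σ.left, ?_, ⟨⟨x, ?_⟩, c.isClosedEmbedding.injective ?_⟩⟩
  · rw [← Category.assoc, hσl, Category.assoc, hpq]
    exact RatDenseLib.Family.geometricallyReduced_comp q U.ι
  · show p x ∈ Set.range c
    exact ⟨z, hz.trans hx.symm⟩
  · rw [← Scheme.Hom.comp_apply, hσl, Scheme.Hom.comp_apply]
    exact hx.trans hz.symm

variable (X : Over (Spec (CommRingCat.of k))) [GrpObj X] [IsProper X.hom] [GeometricallyIntegral X.hom]
  (Y : Over (Spec (CommRingCat.of k))) [GrpObj Y] (i : Y ⟶ X) [IsMonHom i] [IsClosedImmersion i.left]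
  [ConnectedSpace ↥Y.left] {Yr : Scheme.{u}} (j : Yr ⟶ Y.left) [IsClosedImmersion j] [Surjective j]
  [IsReduced Yr]

include i in
/-- The reduced connected subgroup is geometrically reduced. -/
theorem geometricallyReduced_red : GeometricallyReduced (j ≫ Y.hom) := by
  let K := AlgebraicClosure k
  obtain ⟨l, hl, hlk⟩ := AVHomLib.exists_prime_ne_zero (k := k)
  haveI : Fact l.Prime := ⟨hl⟩
  have hlK : (l : K) ≠ 0 := by
    rw [← map_natCast (algebraMap k K), ne_eq, map_eq_zero]
    exact hlk
  haveI : IsProper Y.hom := by rw [← Over.w i]; infer_instance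
  haveI : GeometricallyConnected Y.hom :=
    MonoFibre.geometricallyConnected_of_section Y.hom η[Y].left (Over.w η[Y])
  haveI : Subsingleton ↥(Spec (CommRingCat.of K)) := inferInstanceAs (Subsingleton (PrimeSpectrum K))
  haveI : ConnectedSpace (bcObj K Y).left := by
    haveI : GeometricallyConnected (bcObj K Y).hom :=
      inferInstanceAs (GeometricallyConnected (pullback.snd Y.hom (bcMap (k := k) K)))
    exact GeometricallyConnected.connectedSpace_of_subsingleton (bcObj K Y).hom
  obtain ⟨N, hN, f, hf, hfc, hNp, hNi, hr⟩ := AVLib.exists_idSubgroup (G := bcObj K Y)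
  letI := hN
  haveI := hf
  haveI := hNp
  haveI := hNi
  haveI : IsCommMonObj N := isCommMonObj_of_isProper_of_geometricallyIntegral N
  have hsurj : Function.Surjective f.left := by
    intro y
    have : y ∈ GrpSchLib.idComp (bcObj K Y) := by
      rw [GrpSchLib.idComp, ← GrpSchLib.connectedComponent_eq, PreconnectedSpace.connectedComponent_eq_univ]
      trivial
    rw [← hr] at this
    exact this
  haveI : Surjective (bcMap (k := k) K) :=
    ⟨fun x => ⟨IsLocalRing.closedPoint K, Subsingleton.elim (α := PrimeSpectrum k) _ _⟩⟩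
  haveI : Surjective (pullback.fst Y.hom (bcMap (k := k) K)) := inferInstance
  let F : N.left ⟶ Y.left := f.left ≫ pullback.fst Y.hom (bcMap K)
  have hF : Function.Surjective F := by
    intro y
    obtain ⟨w, rfl⟩ := (pullback.fst Y.hom (bcMap (k := k) K)).surjective y
    obtain ⟨v, rfl⟩ := hsurj w
    exact ⟨v, rfl⟩
  have hd := hF.denseRange.dense_image F.continuous (WeilAVLib.dense_torsion N l hlK)
  have hc : IsClosedImmersion (j ≫ i.left) := inferInstance
  have hjh : (j ≫ i.left) ≫ X.hom = j ≫ Y.hom := by rw [Category.assoc, Over.w i]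
  refine RatDenseLib.Family.geometricallyReduced_of_dense _ ?_
  let e := j.isClosedEmbedding.isEmbedding.toHomeomorph
  refine ((hd.preimage (f := j) ?_)).mono ?_
  · intro U hU
    obtain ⟨V, hV, rfl⟩ := j.isClosedEmbedding.isInducing.isOpen_iff.1 hU
    rwa [Set.image_preimage_eq _ j.surjective]
  rintro z ⟨v, hv, hvz⟩
  simp only [Set.mem_iUnion] at hv
  obtain ⟨n, a, ha, t, rfl⟩ := hv
  let b := (AVPtsLib.ptsEquiv (A := Y) K).symm (a ≫ f)
  have hb : b ^ l ^ n = 1 := by
    rw [← map_pow, comp_pow_hom, ha, MonObj.one_comp, map_one]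
  have hbl : (a ≫ f).left ≫ pullback.fst Y.hom (bcMap K) = b.left := by
    show _ = ((AVPtsLib.ptsEquiv (A := Y) K).symm (a ≫ f)).left
    simp [AVPtsLib.ptsEquiv, AVPtsLib.unitIso, Adjunction.homEquiv_counit]
  have hbs : (b ≫ i) ^ l ^ n = 1 := by rw [comp_pow_hom, hb, MonObj.one_comp]
  rw [← hjh]
  refine exists_gr_of_torsion X (j ≫ i.left) (l ^ n) (by rw [Nat.cast_pow]; exact pow_ne_zero _ hlk) (b ≫ i) hbs t z ?_
  rw [Scheme.Hom.comp_apply, ← hvz, Over.comp_left, Scheme.Hom.comp_apply, ← hbl]
  rfl

include i in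
/-- The reduced connected subgroup is an abelian subvariety. -/
theorem geometricallyIntegral_and_grpObj : GeometricallyIntegral (j ≫ Y.hom) ∧
    ∃ _ : GrpObj (Over.mk (j ≫ Y.hom)), IsMonHom (Over.homMk j rfl : Over.mk (j ≫ Y.hom) ⟶ Y) := by
  haveI hgr := geometricallyReduced_red X Y i j
  haveI : IsProper Y.hom := by rw [← Over.w i]; infer_instance
  let N : Over (Spec (CommRingCat.of k)) := Over.mk (j ≫ Y.hom)
  let f : N ⟶ Y := Over.homMk j rfl
  haveI : GeometricallyReduced N.hom := hgr
  haveI : IsReduced N.left := ‹IsReduced Yr›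
  haveI : IsClosedImmersion f.left := inferInstanceAs (IsClosedImmersion j)
  haveI : Mono f := Over.mono_of_mono_left f
  have hlift : ∀ {T : Over (Spec (CommRingCat.of k))} [IsReduced T.left] (v : T ⟶ Y), ∃ v' : T ⟶ N, v' ≫ f = v :=
    fun v => RatDenseLib.exists_lift f v (fun y _ => j.surjective y)
  haveI : IsReduced (𝟙_ (Over (Spec (CommRingCat.of k)))).left := RatDenseLib.isReduced_unit
  haveI : IsReduced (N ⊗ N).left := FBaseLib.isReduced_pullback N.hom N.hom
  obtain ⟨e, he⟩ := hlift η[Y]
  obtain ⟨m, hm⟩ := hlift ((fst N N ≫ f) * (snd N N ≫ f))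
  obtain ⟨v, hv⟩ := hlift f⁻¹
  have hone : ∀ {T : Over (Spec (CommRingCat.of k))} (a : T ⟶ 𝟙_ _), a ≫ e ≫ f = 1 := fun a => by
    rw [he, Hom.one_def, toUnit_unique a (toUnit _)]
  letI mon : MonObj N :=
    { one := e
      mul := m
      one_mul := by
        rw [← cancel_mono f, Category.assoc, hm, MonObj.comp_mul, whiskerRight_fst_assoc, whiskerRight_snd_assoc,
          hone, _root_.one_mul, leftUnitor_hom]
      mul_one := by
        rw [← cancel_mono f, Category.assoc, hm, MonObj.comp_mul, whiskerLeft_fst_assoc, whiskerLeft_snd_assoc,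
          hone, _root_.mul_one, rightUnitor_hom]
      mul_assoc := by
        rw [← cancel_mono f]
        simp only [Category.assoc, hm, MonObj.comp_mul, whiskerRight_fst_assoc, whiskerRight_snd_assoc,
          whiskerLeft_fst_assoc, whiskerLeft_snd_assoc, associator_hom_fst_assoc, associator_hom_snd_fst_assoc,
          associator_hom_snd_snd_assoc, _root_.mul_assoc] }
  haveI hmon : IsMonHom f := ⟨he, by
    show m ≫ f = _
    rw [hm, Hom.mul_def]; congr 1⟩
  letI grp : GrpObj N :=
    { inv := v
      left_inv := by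
        rw [← cancel_mono f, Category.assoc, Category.assoc]
        show lift v (𝟙 N) ≫ m ≫ f = toUnit N ≫ e ≫ f
        rw [hone]
        rw [hm, MonObj.comp_mul, lift_fst_assoc, lift_snd_assoc, hv, Category.id_comp, inv_mul_cancel]
      right_inv := by
        rw [← cancel_mono f, Category.assoc, Category.assoc]
        show lift (𝟙 N) v ≫ m ≫ f = toUnit N ≫ e ≫ f
        rw [hone]
        rw [hm, MonObj.comp_mul, lift_fst_assoc, lift_snd_assoc, hv, Category.id_comp, mul_inv_cancel] }
  haveI : ConnectedSpace N.left := by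
    have e' : Yr ≃ₜ Y.left := Equiv.toHomeomorphOfIsInducing
      (Equiv.ofBijective j ⟨j.isClosedEmbedding.injective, j.surjective⟩) j.isClosedEmbedding.isInducing
    exact e'.symm.surjective.connectedSpace e'.symm.continuous
  haveI : LocallyOfFiniteType N.hom := inferInstanceAs (LocallyOfFiniteType (j ≫ Y.hom))
  exact ⟨AVLib.geometricallyIntegral_of_connectedSpace (G := N), grp, hmon⟩

end Groth.Agent.RedConnLib
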